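import Groth.Agent.ProjLcmEmbLib.Ratios
import Groth.Agent.ProjTwistLib.Ample
import Groth.Agent.AmpleEmb.SectionsGe
import Groth.Agent.SmallAlgLib.GradedGen

/-!
# Very ampleness of `O(n)` on `Proj` when the `n`-th Veronese subalgebra is generated in degree one
-/

set_option autoImplicit false
set_option backward.isDefEq.respectTransparency false

universe u

open CategoryTheory CategoryTheory.Limits AlgebraicGeometry TopologicalSpace Opposite
open Groth.Agent.DCohLib Groth.Agent.ParaFLib Groth.Agent.AmpleLib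

noncomputable section

namespace Groth.Agent.ProjLcmEmbLib

variable {R A : Type u} [CommRing R] [CommRing A] [Algebra R A] (𝒜 : ℕ → Submodule R A) [GradedAlgebra 𝒜]

/-- The section `a / 1` of `O(d)`. -/
def formSec {d : ℕ} (a : 𝒜 d) : Coh.structureModule (Proj 𝒜) ⟶ Twist.twist 𝒜 (d : ℤ) :=
  secHom (Twist.twist 𝒜 (d : ℤ)) (show Γ(Twist.twist 𝒜 (d : ℤ), ⊤) from Twist.globalOf 𝒜 a)

theorem genLocus_formSec {d : ℕ} (h : ∀ x : Proj 𝒜, ProjTwistLib.HasUnit 𝒜 (d : ℤ) x) (a : 𝒜 d) :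
    CohB1.genLocus _ (formSec 𝒜 a) = Proj.basicOpen 𝒜 a.1 := by
  refine le_antisymm (fun x hx => ?_) (fun x hx => ?_)
  · obtain ⟨U, hxU, hU⟩ := mem_genLocus_iff'.1 hx
    rw [formSec, sec_secHom] at hU
    exact ProjTwistLib.notMem_of_gen a (h x) hxU hU
  · refine mem_genLocus_iff'.2 ⟨_, hx, ?_⟩
    rw [formSec, sec_secHom]
    exact ProjTwistLib.gen_globalOf a le_rfl

theorem ratio_formSec {d : ℕ} (a c : 𝒜 d) {U : (Proj 𝒜).Opens} (hU : U ≤ Proj.basicOpen 𝒜 a.1) :
    ProjTwist.fracSec 𝒜 c a hU • resT (sec (formSec 𝒜 a)) U = resT (sec (formSec 𝒜 c)) U := by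
  simp only [formSec, sec_secHom]
  refine ProjTwist.sect_ext fun x => ?_
  rw [ProjTwist.valAt_fracSec_smul]
  show Localization.mk c.1 ⟨a.1, _⟩ * Localization.mk a.1 ⟨1, _⟩ = Localization.mk c.1 ⟨1, _⟩
  rw [Localization.mk_mul]
  refine Localization.mk_eq_mk_iff.2 (Localization.r_iff_exists.2 ⟨1, ?_⟩)
  simp [mul_comm]

theorem eval₂Hom_comp_surjective {B B' C : Type u} [CommRing B] [CommRing B'] [CommRing C] (g : B →+* C)
    (e : B' →+* B) {ι : Type} (t : ι → C) (h : Function.Surjective (MvPolynomial.eval₂Hom (g.comp e) t)) :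
    Function.Surjective (MvPolynomial.eval₂Hom g t) := fun y => by
  obtain ⟨p, rfl⟩ := h y
  exact ⟨MvPolynomial.map e p, MvPolynomial.eval₂Hom_map_hom ..⟩

theorem isRelVeryAmplePn_twist {n : ℕ} (hn : 0 < n) (hcov : ∀ x : Proj 𝒜, ∃ g : 𝒜 n, x ∈ Proj.basicOpen 𝒜 g.1)
    {m : ℕ} (b : Fin (m + 1) → 𝒜 n) (hspan : Submodule.span R (Set.range fun a => (b a).1) = 𝒜 n)
    (hpow : ∀ k, 𝒜 (k * n) = 𝒜 n ^ k) :
    RelAmple.IsRelVeryAmplePn (ProjCoh.projToSpec 𝒜) (Twist.twist 𝒜 (n : ℤ)) := by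
  have hu : ∀ x : Proj 𝒜, ProjTwistLib.HasUnit 𝒜 (n : ℤ) x := fun x => by
    obtain ⟨g, hg⟩ := hcov x
    exact ProjTwistLib.hasUnit_of_mem g hg
  have hQ := ProjTwistLib.isInvertible_of_hasUnit hu
  have hloc := fun i => genLocus_formSec 𝒜 hu (b i)
  have hcovb : ∀ x : Proj 𝒜, ∃ i, x ∈ CohB1.genLocus _ (formSec 𝒜 (b i)) := fun x => by
    obtain ⟨g, hg⟩ := hcov x
    by_contra hne
    push Not at hne
    refine hg ?_
    have hle : 𝒜 n ≤ (x.asHomogeneousIdeal.toIdeal).restrictScalars R := by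
      rw [← hspan, Submodule.span_le]
      rintro _ ⟨i, rfl⟩
      by_contra hi
      exact hne i ((hloc i).ge hi)
    exact hle g.2
  let F := AmpleEmb.familyOfSections hQ (fun i => formSec 𝒜 (b i))
    (fun i => (hloc i).symm ▸ Proj.isAffineOpen_basicOpen 𝒜 (b i).1 (b i).2 hn) hcovb
    (fun i a => ProjTwist.fracSec 𝒜 (b a) (b i) (hloc i).le)
    (fun i a => ratio_formSec 𝒜 (b i) (b a) (hloc i).le)
  refine AmpleEmb.isRelVeryAmplePn_of_ratios (ProjCoh.projToSpec 𝒜) F (Iso.refl _) (fun i => formSec 𝒜 (b i))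
    (fun i => AmpleEmb.gen_genLocus hQ _) (fun i a => ratio_formSec 𝒜 (b i) (b a) (hloc i).le) Set.univ
    (fun i _ => ⟨⊤, isAffineOpen_top _, le_top, ?_⟩) (fun x => ?_)
  · exact eval₂Hom_comp_surjective _ (Scheme.ΓSpecIso (CommRingCat.of R)).inv.hom _
      (ratios_surjective 𝒜 b hn hspan hpow i (hloc i))
  · obtain ⟨i, hi⟩ := hcovb x
    exact ⟨i, Set.mem_univ _, hi⟩

/-- An immersion of a proper scheme into projective space over an affine base is closed. -/
theorem isClosedImmersion_of_proper {X S : Scheme.{u}} {N : ℕ} (j : X ⟶ CohB1.ProjSpaceOver N S) [IsImmersion j]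
    {q : X ⟶ S} [IsProper q]
    (h : j ≫ pullback.snd (CohB1.ProjSpace.toSpec N (ULift.{u} ℤ)) (specULiftZIsTerminal.from S) = q) :
    IsClosedImmersion j := by
  haveI : IsSeparated (CohB1.ProjSpace.toSpec N (ULift.{u} ℤ)) := inferInstance
  haveI : IsSeparated (pullback.snd (CohB1.ProjSpace.toSpec N (ULift.{u} ℤ)) (specULiftZIsTerminal.from S)) :=
    inferInstance
  haveI : UniversallyClosed (j ≫ pullback.snd (CohB1.ProjSpace.toSpec N (ULift.{u} ℤ))
      (specULiftZIsTerminal.from S)) := by rw [h]; infer_instance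
  haveI : UniversallyClosed j :=
    UniversallyClosed.of_comp_of_isSeparated j (pullback.snd (CohB1.ProjSpace.toSpec N (ULift.{u} ℤ))
      (specULiftZIsTerminal.from S))
  exact IsClosedImmersion.of_isPreimmersion j j.isClosedMap.isClosed_range

end Groth.Agent.ProjLcmEmbLib
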