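import Groth.Agent.ProjTwist.Basic
import Groth.Agent.ProjCoh.PSData

/-!
# Sections over a standard open of `Proj` generated by ratios of forms of one degree
-/

set_option autoImplicit false
set_option backward.isDefEq.respectTransparency false

universe u

open CategoryTheory AlgebraicGeometry TopologicalSpace Opposite

noncomputable section

namespace Groth.Agent.ProjLcmEmbLib

variable {R A : Type u} [CommRing R] [CommRing A] [Algebra R A] (𝒜 : ℕ → Submodule R A) [GradedAlgebra 𝒜]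

/-- The value of a function at a point. -/
abbrev secVal {V : (Proj 𝒜).Opens} (g : Γ(Proj 𝒜, V)) (x : V) : Twist.Loc 𝒜 x.1 :=
  ((g : Twist.O (𝒜 := 𝒜) (op V)).1 x).val

lemma secVal_ext {V : (Proj 𝒜).Opens} {g g' : Γ(Proj 𝒜, V)} (h : ∀ x, secVal 𝒜 g x = secVal 𝒜 g' x) :
    g = g' :=
  Subtype.ext (funext fun x => HomogeneousLocalization.val_injective _ (h x))

lemma secVal_add {V : (Proj 𝒜).Opens} (g g' : Γ(Proj 𝒜, V)) (x : V) :
    secVal 𝒜 (g + g') x = secVal 𝒜 g x + secVal 𝒜 g' x := HomogeneousLocalization.val_add _ _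

lemma secVal_mul {V : (Proj 𝒜).Opens} (g g' : Γ(Proj 𝒜, V)) (x : V) :
    secVal 𝒜 (g * g') x = secVal 𝒜 g x * secVal 𝒜 g' x := HomogeneousLocalization.val_mul _ _

lemma secVal_fracSec {i : ℕ} (a s : 𝒜 i) {V : (Proj 𝒜).Opens} (hV : V ≤ Proj.basicOpen 𝒜 s.1) (x : V) :
    secVal 𝒜 (ProjTwist.fracSec 𝒜 a s hV) x = Localization.mk a.1 ⟨s.1, hV x.2⟩ :=
  HomogeneousLocalization.val_mk _

lemma pow_notMem {b : A} (k : ℕ) (x : Proj.basicOpen 𝒜 b) : b ^ k ∉ x.1.asHomogeneousIdeal :=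
  fun h => x.2 (x.1.isPrime.mem_of_pow_mem k h)

lemma secVal_awayMk {n : ℕ} {b : A} (hb : b ∈ 𝒜 n) (k : ℕ) (c : A) (hc : c ∈ 𝒜 (k • n)) (x : Proj.basicOpen 𝒜 b) :
    secVal 𝒜 (Proj.awayToSection 𝒜 b (HomogeneousLocalization.Away.mk 𝒜 hb k c hc)) x =
      Localization.mk c ⟨b ^ k, pow_notMem 𝒜 k x⟩ :=
  HomogeneousLocalization.val_mk _

lemma secVal_const {n : ℕ} {b : A} (hb : b ∈ 𝒜 n) (hn : 0 < n) (r : R) (x : Proj.basicOpen 𝒜 b) :
    secVal 𝒜 (ProjCoh.φV (ProjCoh.projφ 𝒜) (Proj.basicOpen 𝒜 b) r) x =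
      Localization.mk (algebraMap R A r) ⟨b ^ 0, pow_notMem 𝒜 0 x⟩ := by
  rw [ProjCoh.φV_projφ 𝒜 hb hn]
  refine Eq.trans ?_ (secVal_awayMk 𝒜 hb 0 (algebraMap R A r)
    (by simpa using SetLike.algebraMap_mem_graded 𝒜 r) x)
  refine congrArg (fun z => secVal 𝒜 (Proj.awayToSection 𝒜 b z) x) (HomogeneousLocalization.val_injective _ ?_)
  refine (HomogeneousLocalization.val_mk _).trans ?_
  rw [HomogeneousLocalization.Away.val_mk]
  congr 1
  exact Subtype.ext (pow_zero b).symm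

variable {n : ℕ} {ι : Type} (b : ι → 𝒜 n)

theorem ratios_surjective (hn : 0 < n) (hspan : Submodule.span R (Set.range fun a => (b a).1) = 𝒜 n)
    (hpow : ∀ k, 𝒜 (k * n) = 𝒜 n ^ k) (i : ι) {U : (Proj 𝒜).Opens} (hU : U = Proj.basicOpen 𝒜 (b i).1) :
    Function.Surjective (MvPolynomial.eval₂Hom (ProjCoh.φV (ProjCoh.projφ 𝒜) U)
      (fun a => ProjTwist.fracSec 𝒜 (b a) (b i) hU.le)) := by
  subst hU
  let ev : MvPolynomial ι R →+* Γ(Proj 𝒜, Proj.basicOpen 𝒜 (b i).1) :=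
    MvPolynomial.eval₂Hom (ProjCoh.φV (ProjCoh.projφ 𝒜) (Proj.basicOpen 𝒜 (b i).1))
      (fun a => ProjTwist.fracSec 𝒜 (b a) (b i) le_rfl)
  let P : ℕ → A → Prop := fun k c => ∃ p, ∀ x : Proj.basicOpen 𝒜 (b i).1,
    secVal 𝒜 (ev p) x = Localization.mk c ⟨(b i).1 ^ k, pow_notMem 𝒜 k x⟩
  have hadd : ∀ k c c', P k c → P k c' → P k (c + c') := fun k c c' ⟨p, hp⟩ ⟨p', hp'⟩ =>
    ⟨p + p', fun x => by rw [map_add, secVal_add, hp, hp', Localization.add_mk_self]⟩
  have hC : ∀ r : R, P 0 (algebraMap R A r) := fun r => ⟨MvPolynomial.C r, fun x => by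
    rw [show ev (MvPolynomial.C r) = _ from MvPolynomial.eval₂Hom_C _ _ r]
    exact secVal_const 𝒜 (b i).2 hn r x⟩
  have hmul : ∀ k l c c', P k c → P l c' → P (k + l) (c * c') := fun k l c c' ⟨p, hp⟩ ⟨p', hp'⟩ =>
    ⟨p * p', fun x => by
      rw [map_mul, secVal_mul, hp, hp', Localization.mk_mul]
      congr 1
      exact Subtype.ext (pow_add _ _ _).symm⟩
  have hone : ∀ y ∈ 𝒜 n, P 1 y := by
    intro y hy
    rw [← hspan] at hy
    induction hy using Submodule.span_induction with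
    | mem y hy =>
      obtain ⟨a, rfl⟩ := hy
      refine ⟨MvPolynomial.X a, fun x => ?_⟩
      rw [show ev (MvPolynomial.X a) = _ from MvPolynomial.eval₂Hom_X' _ _ a, secVal_fracSec]
      congr 1
      exact Subtype.ext (pow_one _).symm
    | zero =>
      refine ⟨0, fun x => ?_⟩
      rw [Localization.mk_zero, map_zero]
      exact HomogeneousLocalization.val_zero
    | add y z _ _ hy hz => exact hadd _ _ _ hy hz
    | smul r y _ hy =>
      rw [Algebra.smul_def]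
      exact hmul 0 1 _ _ (hC r) hy
  have hall : ∀ k, ∀ c ∈ 𝒜 (k * n), P k c := by
    intro k
    rw [hpow k]
    induction k with
    | zero =>
      intro c hc
      rw [pow_zero] at hc
      obtain ⟨r, rfl⟩ := Submodule.mem_one.1 hc
      exact hC r
    | succ k ih =>
      intro c hc
      rw [pow_succ] at hc
      exact Submodule.mul_induction_on hc (fun y hy z hz => hmul k 1 _ _ (ih y hy) (hone z hz))
        (fun y z hy hz => hadd _ _ _ hy hz)
  intro g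
  obtain ⟨z, rfl⟩ := (ConcreteCategory.bijective_of_isIso
    (Proj.basicOpenIsoAway 𝒜 (b i).1 (b i).2 hn).hom).2 g
  obtain ⟨k, c, hc, rfl⟩ := HomogeneousLocalization.Away.mk_surjective 𝒜 (b i).2 z
  obtain ⟨p, hp⟩ := hall k c (by simpa using hc)
  exact ⟨p, secVal_ext 𝒜 fun x => (hp x).trans (secVal_awayMk 𝒜 (b i).2 k c hc x).symm⟩

end Groth.Agent.ProjLcmEmbLib
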